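import Groth.Agent.ZetaFun.Basic
import Groth.Prelude.Def_CurvBase
import Groth.Prelude.Def_SgaExt
import Groth.Agent.DimTheory.Scheme
import Mathlib.AlgebraicGeometry.Morphisms.Finite
import Mathlib.AlgebraicGeometry.Morphisms.FiniteType
import Mathlib.FieldTheory.Finite.GaloisField
import Mathlib.FieldTheory.Finite.Extension
import Mathlib.AlgebraicGeometry.Morphisms.Immersion

/-! Points with values in finite fields, counted by closed points. -/

noncomputable section

set_option autoImplicit false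
set_option backward.isDefEq.respectTransparency.types false
set_option linter.style.haveILetI false

universe u

open CategoryTheory CategoryTheory.Limits AlgebraicGeometry Opposite TopologicalSpace

namespace Groth.Agent.ZetaFun

variable {k : Type u} [Field k] {X : Scheme.{u}} [X.Over (Spec (CommRingCat.of k))]

attribute [local instance] Curv2.resAlgebra

theorem over_eq' : (X ↘ Spec (CommRingCat.of k)) = X.toSpecΓ ≫
      Spec.map (CommRingCat.ofHom (Coh.toGlobal (X ↘ Spec (CommRingCat.of k)))) := by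
  rw [← cancel_mono (Spec (CommRingCat.of k)).toSpecΓ, Scheme.toSpecΓ_naturality, Category.assoc]
  congr 1
  rw [← SpecMap_ΓSpecIso_hom, ← Spec.map_comp]
  congr 1
  ext c
  simp [Coh.toGlobal]

theorem fromSpecResidueField_comp_over' (x : X) :
    X.fromSpecResidueField x ≫ (X ↘ Spec (CommRingCat.of k)) =
      Spec.map (CommRingCat.ofHom (Curv2.resMap k X x)) := by
  rw [show X.fromSpecResidueField x = Spec.map (X.residue x) ≫ X.fromSpecStalk x from rfl, Category.assoc]
  conv_lhs => rw [over_eq' (k := k) (X := X)]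
  rw [Scheme.fromSpecStalk_toSpecΓ_assoc, ← Spec.map_comp, ← Spec.map_comp]
  rfl

/-- `k'`-points as pairs of a point and an embedding of its residue field -/
def pointsEquiv' (k' : Type u) [Field k'] [Algebra k k'] :
    {g : Spec (CommRingCat.of k') ⟶ X //
      g ≫ (X ↘ Spec (CommRingCat.of k)) = Spec.map (CommRingCat.ofHom (algebraMap k k'))} ≃
      Σ x : X, (X.residueField x →ₐ[k] k') :=
  have key : ∀ (x : X) (φ : X.residueField x ⟶ CommRingCat.of k'),
      (Spec.map φ ≫ X.fromSpecResidueField x) ≫ (X ↘ Spec (CommRingCat.of k)) =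
        Spec.map (CommRingCat.ofHom (algebraMap k k')) ↔
      ∀ c, φ.hom (Curv2.resMap k X x c) = algebraMap k k' c := by
    intro x φ
    rw [Category.assoc, fromSpecResidueField_comp_over', ← Spec.map_comp, Spec.map_inj]
    exact ⟨fun h c => congrArg (fun r => r.hom c) h, fun h => CommRingCat.hom_ext (RingHom.ext h)⟩
  { toFun := fun g => ⟨(Scheme.SpecToEquivOfField k' X g.1).1,
      ⟨(Scheme.SpecToEquivOfField k' X g.1).2.hom, (key _ _).1 (by
        have h := (Scheme.SpecToEquivOfField k' X).symm_apply_apply g.1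
        exact (congrArg (· ≫ (X ↘ Spec (CommRingCat.of k))) h).trans g.2)⟩⟩
    invFun := fun t => ⟨(Scheme.SpecToEquivOfField k' X).symm ⟨t.1, CommRingCat.ofHom t.2.toRingHom⟩,
      (key _ _).2 t.2.commutes⟩
    left_inv := fun g => Subtype.ext ((Scheme.SpecToEquivOfField k' X).symm_apply_apply g.1)
    right_inv := fun t => by
      have inj : Function.Injective (fun t : Σ x : X, (X.residueField x →ₐ[k] k') =>
          (⟨t.1, CommRingCat.ofHom t.2.toRingHom⟩ : Σ x : X, X.residueField x ⟶ CommRingCat.of k')) := by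
        rintro ⟨x, a⟩ ⟨y, b⟩ h
        obtain rfl : x = y := congrArg Sigma.fst h
        exact congrArg (Sigma.mk x) (AlgHom.ext fun c =>
          congrArg (fun r => CommRingCat.Hom.hom r c) (eq_of_heq (Sigma.mk.inj h).2))
      exact inj ((Scheme.SpecToEquivOfField k' X).apply_symm_apply ⟨t.1, CommRingCat.ofHom t.2.toRingHom⟩) }

theorem residueDegree_eq (x : X) :
    EGA4loc.residueDegree (X ↘ Spec (CommRingCat.of k)) x = Module.finrank k (X.residueField x) := by
  set f := (X ↘ Spec (CommRingCat.of k)) with hf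
  let e : k →+* (Spec (CommRingCat.of k)).residueField (f x) :=
    (((Spec (CommRingCat.of k)).residue (f x)).hom.comp
      (((Spec (CommRingCat.of k)).presheaf.germ ⊤ (f x) trivial).hom.comp
        (Scheme.ΓSpecIso (CommRingCat.of k)).inv.hom))
  have he : Function.Surjective e := by
    intro z
    obtain ⟨a, b, rfl⟩ := DimTheory.exists_eq_div (isAffineOpen_top (Spec (CommRingCat.of k))) (x := f x) trivial z
    refine ⟨(Scheme.ΓSpecIso (CommRingCat.of k)).hom a / (Scheme.ΓSpecIso (CommRingCat.of k)).hom b, ?_⟩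
    rw [map_div₀]
    simp [e]
  unfold EGA4loc.residueDegree
  letI := (f.residueFieldMap x).hom.toAlgebra
  refine (Algebra.finrank_eq_of_equiv_equiv (RingEquiv.ofBijective e ⟨e.injective, he⟩) (RingEquiv.refl _) ?_).symm
  ext c
  show (f.residueFieldMap x) ((Spec (CommRingCat.of k)).residue (f x) _) = Curv2.resMap k X x c
  rw [← ConcreteCategory.comp_apply, Scheme.residue_residueFieldMap, ConcreteCategory.comp_apply]
  show X.residue x (f.stalkMap x ((Spec (CommRingCat.of k)).presheaf.germ ⊤ (f x) trivial _)) = _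
  rw [Scheme.Hom.germ_stalkMap_apply]
  rfl

theorem isClosed_iff [LocallyOfFiniteType (X ↘ Spec (CommRingCat.of k))] (x : X) :
    IsClosed ({x} : Set X) ↔ FiniteDimensional k (X.residueField x) := by
  haveI : JacobsonSpace X := LocallyOfFiniteType.jacobsonSpace (X ↘ Spec (CommRingCat.of k))
  constructor
  · intro hx
    haveI := isClosed_singleton_iff_isClosedImmersion.1 hx
    haveI : IsFinite (X.fromSpecResidueField x ≫ (X ↘ Spec (CommRingCat.of k))) := by
      rw [isFinite_iff_locallyOfFiniteType_of_jacobsonSpace]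
      infer_instance
    have h : IsFinite (Spec.map (CommRingCat.ofHom (Curv2.resMap k X x))) := by
      rw [← fromSpecResidueField_comp_over']
      infer_instance
    exact (IsFinite.SpecMap_iff _).1 h
  · intro hfin
    rw [isClosed_singleton_iff_locallyOfFiniteType]
    have h : IsFinite (Spec.map (CommRingCat.ofHom (Curv2.resMap k X x))) := (IsFinite.SpecMap_iff _).2 hfin
    haveI : LocallyOfFiniteType (X.fromSpecResidueField x ≫ (X ↘ Spec (CommRingCat.of k))) := by
      rw [fromSpecResidueField_comp_over']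
      infer_instance
    exact locallyOfFiniteType_of_comp _ (X ↘ Spec (CommRingCat.of k))

theorem finite_points [LocallyOfFiniteType (X ↘ Spec (CommRingCat.of k))] [QuasiCompact (X ↘ Spec (CommRingCat.of k))]
    (k' : Type u) [Field k'] [Algebra k k'] [Finite k'] :
    Finite {g : Spec (CommRingCat.of k') ⟶ X //
      g ≫ (X ↘ Spec (CommRingCat.of k)) = Spec.map (CommRingCat.ofHom (algebraMap k k'))} := by
  classical
  set f := (X ↘ Spec (CommRingCat.of k))
  haveI : CompactSpace X := QuasiCompact.compactSpace_of_compactSpace f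
  obtain ⟨𝒰, hfin⟩ : ∃ 𝒰 : X.OpenCover, Finite 𝒰.I₀ ∧ ∀ i, IsAffine (𝒰.X i) :=
    ⟨X.affineCover.finiteSubcover, inferInstance, fun i => inferInstanceAs (IsAffine (X.affineCover.X _))⟩
  haveI := hfin.1
  haveI := hfin.2
  let A : 𝒰.I₀ → CommRingCat.{u} := fun i => Γ(𝒰.X i, ⊤)
  let v : ∀ i, Spec (A i) ⟶ X := fun i => (𝒰.X i).isoSpec.inv ≫ 𝒰.f i
  let φ : ∀ i, CommRingCat.of k ⟶ A i := fun i => Spec.preimage (v i ≫ f)
  letI : ∀ i, Algebra k (A i) := fun i => (φ i).hom.toAlgebra
  haveI : ∀ i, Algebra.FiniteType k (A i) := fun i => by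
    have h : LocallyOfFiniteType (Spec.map (φ i)) := by
      rw [Spec.map_preimage]
      infer_instance
    exact (HasRingHomProperty.Spec_iff (P := @LocallyOfFiniteType)).1 h
  haveI : ∀ i, Finite (A i →ₐ[k] k') := fun i => by
    obtain ⟨S, hS⟩ := (Algebra.FiniteType.out : (⊤ : Subalgebra k (A i)).FG)
    refine Finite.of_injective (fun σ (s : (S : Set (A i))) => σ s) fun σ τ h => ?_
    exact AlgHom.ext_of_adjoin_eq_top hS fun s hs => congrFun h ⟨s, hs⟩
  refine Finite.of_surjective (fun t : {t : Σ i, A i →ₐ[k] k' //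
      (Spec.map (CommRingCat.ofHom t.2.toRingHom) ≫ v t.1) ≫ f = Spec.map (CommRingCat.ofHom (algebraMap k k'))} =>
    ⟨Spec.map (CommRingCat.ofHom t.1.2.toRingHom) ≫ v t.1.1, t.2⟩) fun g => ?_
  obtain ⟨i, y, hy⟩ : ∃ i y, (v i).base y = g.1.base default := by
    obtain ⟨i, z, hz⟩ := 𝒰.exists_eq (g.1.base default)
    exact ⟨i, (𝒰.X i).isoSpec.hom.base z, by
      rw [← Scheme.Hom.comp_apply, Iso.hom_inv_id_assoc]
      exact hz⟩
  have hrg : Set.range g.1.base ⊆ Set.range (v i).base := by
    rintro _ ⟨w, rfl⟩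
    rw [Subsingleton.elim w default]
    exact ⟨y, hy⟩
  obtain ⟨m, hm⟩ : ∃ m : A i ⟶ CommRingCat.of k', Spec.map m = IsOpenImmersion.lift (v i) g.1 hrg :=
    ⟨Spec.preimage _, Spec.map_preimage _⟩
  have hcomp : φ i ≫ m = CommRingCat.ofHom (algebraMap k k') := by
    apply Spec.map_injective
    rw [Spec.map_comp, Spec.map_preimage, hm, IsOpenImmersion.lift_fac_assoc, g.2]
  have hg : Spec.map m ≫ v i = g.1 := by rw [hm, IsOpenImmersion.lift_fac]
  exact ⟨⟨⟨i, ⟨m.hom, fun a => congrArg (fun h => h.hom a) hcomp⟩⟩,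
    (congrArg (· ≫ f) hg).trans g.2⟩, Subtype.ext hg⟩

theorem pointCount_eq_nPts [Finite k] [LocallyOfFiniteType (X ↘ Spec (CommRingCat.of k))]
    [QuasiCompact (X ↘ Spec (CommRingCat.of k))] (k' : Type u) [Field k'] [Algebra k k'] [Finite k'] :
    SgaExt.pointCount (X ↘ Spec (CommRingCat.of k)) k' =
      Zeta.nPts (X ↘ Spec (CommRingCat.of k)) (Module.finrank k k') := by
  classical
  set n := Module.finrank k k' with hn
  have hn0 : 0 < n := Module.finrank_pos
  haveI hfinS : Finite (Σ x : X, (X.residueField x →ₐ[k] k')) :=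
    haveI := finite_points (k := k) (X := X) k'
    Finite.of_equiv _ (pointsEquiv' k')
  have hne : ∀ x : X, Nonempty (X.residueField x →ₐ[k] k') ↔
      IsClosed ({x} : Set X) ∧ Module.finrank k (X.residueField x) ∣ n := by
    intro x
    constructor
    · rintro ⟨σ⟩
      haveI : FiniteDimensional k (X.residueField x) :=
        FiniteDimensional.of_injective σ.toLinearMap σ.toRingHom.injective
      haveI : Finite (X.residueField x) := Module.finite_of_finite k
      exact ⟨(isClosed_iff (k := k) x).2 inferInstance, FiniteField.nonempty_algHom_iff_finrank_dvd.1 ⟨σ⟩⟩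
    · rintro ⟨hx, hd⟩
      haveI := (isClosed_iff (k := k) x).1 hx
      haveI : Finite (X.residueField x) := Module.finite_of_finite k
      exact FiniteField.nonempty_algHom_iff_finrank_dvd.2 hd
  set S := {x : X | IsClosed ({x} : Set X) ∧ Module.finrank k (X.residueField x) ∣ n}
  have hS : S.Finite := by
    refine (Set.finite_range (fun t : Σ x : X, (X.residueField x →ₐ[k] k') => t.1)).subset fun x hx => ?_
    obtain ⟨σ⟩ := (hne x).2 hx
    exact ⟨⟨x, σ⟩, rfl⟩
  haveI := hS.fintype
  let F : (Σ x : S, (X.residueField x.1 →ₐ[k] k')) → Σ x : X, (X.residueField x →ₐ[k] k') := fun t => ⟨t.1.1, t.2⟩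
  have hF : Function.Bijective F := by
    refine ⟨?_, fun t => ⟨⟨⟨t.1, (hne t.1).1 ⟨t.2⟩⟩, t.2⟩, rfl⟩⟩
    rintro ⟨⟨x, hx⟩, a⟩ ⟨⟨y, hy⟩, b⟩ h
    obtain rfl : x = y := congrArg Sigma.fst h
    obtain rfl : a = b := eq_of_heq (Sigma.mk.inj h).2
    rfl
  haveI : ∀ x : S, Finite (X.residueField x.1 →ₐ[k] k') := fun x =>
    Finite.of_injective (fun σ => F ⟨x, σ⟩) fun a b h => eq_of_heq (Sigma.mk.inj h).2
  have hc : ∀ x : S, Nat.card (X.residueField x.1 →ₐ[k] k') = EGA4loc.residueDegree (X ↘ Spec (CommRingCat.of k)) x.1 := fun x => by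
    haveI := (isClosed_iff (k := k) x.1).1 x.2.1
    haveI : Finite (X.residueField x.1) := Module.finite_of_finite k
    rw [residueDegree_eq, FiniteField.natCard_algHom_of_finrank_dvd x.2.2]
  rw [SgaExt.pointCount, Nat.card_congr (pointsEquiv' k'), ← Nat.card_congr (Equiv.ofBijective F hF),
    Nat.card_sigma, Finset.sum_congr rfl (fun x _ => hc x),
    ← Finset.sum_subtype hS.toFinset (fun _ => hS.mem_toFinset) (fun x => EGA4loc.residueDegree (X ↘ Spec (CommRingCat.of k)) x),
    Zeta.nPts,
    ← Finset.sum_fiberwise_of_maps_to (t := n.divisors) (g := fun x => EGA4loc.residueDegree (X ↘ Spec (CommRingCat.of k)) x)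
      (fun x hx => Nat.mem_divisors.2 ⟨(residueDegree_eq (k := k) x).symm ▸ (hS.mem_toFinset.1 hx).2, hn0.ne'⟩)]
  refine Finset.sum_congr rfl fun e he => ?_
  rw [Finset.sum_congr rfl (fun x hx => (Finset.mem_filter.1 hx).2), Finset.sum_const, smul_eq_mul, mul_comm, Zeta.degCount]
  congr 1
  rw [← Nat.card_eq_finsetCard]
  refine Nat.card_congr (Equiv.subtypeEquivRight fun x => ?_)
  rw [Finset.mem_filter, hS.mem_toFinset]
  refine ⟨fun h => ⟨h.1.1, h.2⟩, fun h => ⟨⟨h.1, ?_⟩, h.2⟩⟩
  rw [← residueDegree_eq, h.2]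
  exact (Nat.mem_divisors.1 he).1

end Groth.Agent.ZetaFun

namespace Groth.Agent.ZetaFun

variable {k : Type u} [Field k] {X Y : Scheme.{u}} (f : X ⟶ Spec (CommRingCat.of k))

attribute [local instance] Curv2.resAlgebra

theorem finite_degCount [Finite k] [LocallyOfFiniteType f] [QuasiCompact f] {e : ℕ} (he : 0 < e) :
    Finite {x : X // IsClosed ({x} : Set X) ∧ EGA4loc.residueDegree f x = e} := by
  letI : X.Over (Spec (CommRingCat.of k)) := ⟨f⟩
  haveI : LocallyOfFiniteType (X ↘ Spec (CommRingCat.of k)) := ‹LocallyOfFiniteType f›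
  haveI : QuasiCompact (X ↘ Spec (CommRingCat.of k)) := ‹QuasiCompact f›
  obtain ⟨p, hp⟩ := CharP.exists k
  haveI : Fact p.Prime := ⟨CharP.char_is_prime k p⟩
  haveI : NeZero e := ⟨he.ne'⟩
  let k' := ULift.{u} (FiniteField.Extension k p e)
  have hd : Module.finrank k k' = e :=
    (ULift.moduleEquiv (R := k) (M := FiniteField.Extension k p e)).finrank_eq.trans (FiniteField.finrank_extension k p e)
  haveI : Finite k' := Finite.of_equiv _ Equiv.ulift.symm
  haveI := finite_points (k := k) (X := X) k'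
  haveI : Finite (Σ x : X, (X.residueField x →ₐ[k] k')) := Finite.of_equiv _ (pointsEquiv' k')
  refine ((Set.finite_range (fun t : Σ x : X, (X.residueField x →ₐ[k] k') => t.1)).subset (fun x hx => ?_) :
    {x : X | IsClosed ({x} : Set X) ∧ EGA4loc.residueDegree f x = e}.Finite).to_subtype
  haveI := (isClosed_iff (k := k) x).1 hx.1
  haveI : Finite (X.residueField x) := Module.finite_of_finite k
  have h1 : EGA4loc.residueDegree (X ↘ Spec (CommRingCat.of k)) x = e := hx.2
  obtain ⟨σ⟩ := FiniteField.nonempty_algHom_iff_finrank_dvd (F := k) (K := X.residueField x) (L := k').2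
    (by rw [hd, ← residueDegree_eq, h1])
  exact ⟨⟨x, σ⟩, rfl⟩

theorem residueDegree_comp_immersion (g : Y ⟶ X) [IsImmersion g] (y : Y) :
    EGA4loc.residueDegree (g ≫ f) y = EGA4loc.residueDegree f (g y) := by
  let K := (Spec (CommRingCat.of k)).residueField (f (g y))
  let L := X.residueField (g y)
  let M := Y.residueField y
  letI : Algebra K L := (f.residueFieldMap (g y)).hom.toAlgebra
  letI : Algebra L M := (g.residueFieldMap y).hom.toAlgebra
  letI : Algebra K M := ((g ≫ f).residueFieldMap y).hom.toAlgebra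
  have : IsScalarTower K L M := IsScalarTower.of_algebraMap_eq fun a => by
    show ((g ≫ f).residueFieldMap y).hom a = (g.residueFieldMap y).hom ((f.residueFieldMap (g y)).hom a)
    rw [Scheme.residueFieldMap_comp]
    rfl
  have hbij : Function.Bijective (algebraMap L M) := by
    refine ⟨(algebraMap L M).injective, fun z => ?_⟩
    obtain ⟨a, rfl⟩ := Y.residue_surjective y z
    obtain ⟨b, rfl⟩ := g.stalkMap_surjective y a
    refine ⟨X.residue (g y) b, ?_⟩
    show (g.residueFieldMap y) (X.residue (g y) b) = _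
    rw [← ConcreteCategory.comp_apply, Scheme.residue_residueFieldMap]
    rfl
  show Module.finrank K M = Module.finrank K L
  rw [← Module.finrank_mul_finrank K L M, Module.finrank_of_bijective_algebraMap hbij, mul_one]

theorem isClosed_iff_pos [LocallyOfFiniteType f] (x : X) :
    IsClosed ({x} : Set X) ↔ 0 < EGA4loc.residueDegree f x := by
  letI : X.Over (Spec (CommRingCat.of k)) := ⟨f⟩
  haveI : LocallyOfFiniteType (X ↘ Spec (CommRingCat.of k)) := ‹LocallyOfFiniteType f›
  show _ ↔ 0 < EGA4loc.residueDegree (X ↘ Spec (CommRingCat.of k)) x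
  rw [isClosed_iff (k := k), residueDegree_eq]
  exact ⟨fun _ => Module.finrank_pos, Module.finite_of_finrank_pos⟩

theorem degCount_partition [Finite k] [LocallyOfFiniteType f] [QuasiCompact f] {ι : Type*} [Fintype ι]
    (Y : ι → Scheme.{u}) (g : ∀ i, Y i ⟶ X) [∀ i, IsImmersion (g i)]
    (hpart : ∀ x : X, IsClosed ({x} : Set X) → ∃! i, x ∈ Set.range (g i).base) {e : ℕ} (he : 0 < e) :
    Zeta.degCount f e = ∑ i, Zeta.degCount (g i ≫ f) e := by
  classical
  haveI := finite_degCount f he
  have hcl : ∀ i y, IsClosed ({y} : Set (Y i)) ↔ IsClosed ({g i y} : Set X) := fun i y => by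
    rw [isClosed_iff_pos (g i ≫ f), isClosed_iff_pos f, residueDegree_comp_immersion]
  let F : (Σ i, {y : Y i // IsClosed ({y} : Set (Y i)) ∧ EGA4loc.residueDegree (g i ≫ f) y = e}) →
      {x : X // IsClosed ({x} : Set X) ∧ EGA4loc.residueDegree f x = e} :=
    fun t => ⟨g t.1 t.2.1, (hcl _ _).1 t.2.2.1, (residueDegree_comp_immersion f _ _).symm.trans t.2.2.2⟩
  have hF : Function.Bijective F := by
    refine ⟨?_, fun x => ?_⟩
    · rintro ⟨i, y, hy⟩ ⟨j, z, hz⟩ h
      have h' : g i y = g j z := congrArg Subtype.val h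
      obtain rfl : i = j := (hpart _ ((hcl i y).1 hy.1)).unique ⟨y, rfl⟩ ⟨z, h'.symm⟩
      obtain rfl : y = z := (g i).isEmbedding.injective h'
      rfl
    · obtain ⟨i, ⟨y, hy⟩, -⟩ := hpart x.1 x.2.1
      subst_vars
      refine ⟨⟨i, y, (hcl _ _).2 (hy ▸ x.2.1), ?_⟩, Subtype.ext hy⟩
      rw [residueDegree_comp_immersion]
      exact hy ▸ x.2.2
  haveI := Finite.of_injective F hF.1
  haveI : ∀ i, Finite {y : Y i // IsClosed ({y} : Set (Y i)) ∧ EGA4loc.residueDegree (g i ≫ f) y = e} := fun i =>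
    Finite.of_injective (fun y => (⟨i, y⟩ : Σ i, {y : Y i // IsClosed ({y} : Set (Y i)) ∧ EGA4loc.residueDegree (g i ≫ f) y = e}))
      fun a b h => eq_of_heq (Sigma.mk.inj h).2
  rw [Zeta.degCount, ← Nat.card_congr (Equiv.ofBijective F hF), Nat.card_sigma]
  rfl

theorem zetaFun_partition [Finite k] [LocallyOfFiniteType f] [QuasiCompact f] {ι : Type*} [Fintype ι]
    (Y : ι → Scheme.{u}) (g : ∀ i, Y i ⟶ X) [∀ i, IsImmersion (g i)]
    (hpart : ∀ x : X, IsClosed ({x} : Set X) → ∃! i, x ∈ Set.range (g i).base) :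
    Zeta.zetaFun f = ∏ i, Zeta.zetaFun (g i ≫ f) := by
  have hU : ∑ i, U (g i ≫ f) = U f := PowerSeries.ext fun m => by
    simp only [U, map_sum, PowerSeries.coeff_mk]
    rw [← Nat.cast_sum]
    congr 1
    simp only [Zeta.nPts]
    rw [Finset.sum_comm]
    refine Finset.sum_congr rfl fun e he => ?_
    rw [← Finset.mul_sum, degCount_partition f Y g hpart (Nat.pos_of_mem_divisors he)]
  refine (eq_zetaFun f ?_ ?_).symm
  · rw [← hU]
    exact FunFldLib.theta_prod_of Finset.univ fun i _ => theta_zetaFun (g i ≫ f)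
  · rw [PowerSeries.coeff_zero_eq_constantCoeff_apply, map_prod]
    exact Finset.prod_eq_one fun i _ => by rw [← PowerSeries.coeff_zero_eq_constantCoeff_apply, coeff_zero_zetaFun]

end Groth.Agent.ZetaFun
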