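import Groth.Prelude.Def_W4c1zetahwZeta
import Groth.Agent.FunFldLib.PowLog

/-! The zeta function through its logarithmic derivative. -/

noncomputable section

set_option autoImplicit false

universe u

open CategoryTheory AlgebraicGeometry PowerSeries

namespace Groth.Agent.ZetaFun

open FunFldLib

variable {k : Type u} [Field k] {X : Scheme.{u}} (f : X ⟶ Spec (CommRingCat.of k))

/-- `t d/dt log Z` -/
def U : ℚ⟦X⟧ := PowerSeries.mk fun m => (Zeta.nPts f m : ℚ)

theorem coeff_U_zero : coeff 0 (U f) = 0 := by simp [U, Zeta.nPts]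

theorem hasSubst : HasSubst (Zeta.logZeta f) :=
  HasSubst.of_constantCoeff_zero' (by
    rw [← coeff_zero_eq_constantCoeff_apply]
    simp [Zeta.logZeta])

theorem theta_zetaFun : theta (Zeta.zetaFun f) = Zeta.zetaFun f * U f := by
  have hL : PowerSeries.X * PowerSeries.derivative ℚ (Zeta.logZeta f) = U f := by
    ext n
    rcases n with _ | m
    · simp [U, Zeta.nPts]
    · rw [coeff_succ_X_mul, coeff_derivative, U, Zeta.logZeta, coeff_mk, coeff_mk]
      push_cast
      field_simp
  rw [theta, Zeta.zetaFun, derivative_subst (hasSubst f), derivative_exp, ← hL]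
  ring

theorem coeff_zero_zetaFun : coeff 0 (Zeta.zetaFun f) = 1 := by
  rw [Zeta.zetaFun, coeff_subst' (hasSubst f), finsum_eq_single _ 0 fun d hd => ?_]
  · simp
  · rw [show coeff 0 (Zeta.logZeta f ^ d) = 0 from ?_, smul_zero]
    rw [coeff_zero_eq_constantCoeff_apply, map_pow, ← coeff_zero_eq_constantCoeff_apply,
      show coeff 0 (Zeta.logZeta f) = 0 by simp [Zeta.logZeta], zero_pow hd]

/-- a series with the same logarithmic derivative and constant term is the zeta function -/
theorem eq_zetaFun {F : ℚ⟦X⟧} (hF : theta F = F * U f) (h0 : coeff 0 F = 1) : F = Zeta.zetaFun f :=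
  theta_eq_unique (coeff_U_zero f) hF (theta_zetaFun f) (h0.trans (coeff_zero_zetaFun f).symm)

/-- agreement up to degree `n` from agreement of logarithmic derivatives up to degree `n` -/
theorem coeff_eq_of_theta {R : Type*} [CommRing R] [IsDomain R] [CharZero R] {F G V W : R⟦X⟧} (n : ℕ)
    (hF : theta F = F * V) (hG : theta G = G * W) (h0 : coeff 0 F = coeff 0 G) (hV : coeff 0 V = 0) (hW : coeff 0 W = 0)
    (h : ∀ m ≤ n, coeff m V = coeff m W) : ∀ m ≤ n, coeff m F = coeff m G := by
  intro m hm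
  induction m using Nat.strong_induction_on with
  | _ m ih =>
    rcases Nat.eq_zero_or_pos m with rfl | hm0
    · exact h0
    have h1 := congrArg (coeff m) hF
    have h2 := congrArg (coeff m) hG
    rw [coeff_theta, coeff_mul] at h1 h2
    have : ∑ p ∈ Finset.HasAntidiagonal.antidiagonal m, coeff p.1 F * coeff p.2 V =
        ∑ p ∈ Finset.HasAntidiagonal.antidiagonal m, coeff p.1 G * coeff p.2 W := by
      refine Finset.sum_congr rfl fun p hp => ?_
      rw [Finset.HasAntidiagonal.mem_antidiagonal] at hp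
      rcases Nat.eq_zero_or_pos p.2 with hp2 | hp2
      · rw [hp2, hV, hW, mul_zero, mul_zero]
      · rw [ih p.1 (by omega) (by omega), h p.2 (by omega)]
    exact mul_left_cancel₀ (Nat.cast_ne_zero.2 hm0.ne') (h1.trans (this.trans h2.symm))

/-- `∑_{j ≥ 1} X^{rj}` -/
def per (R : Type*) [CommRing R] (r : ℕ) : R⟦X⟧ :=
  PowerSeries.mk fun n => if n ≠ 0 ∧ r ∣ n then 1 else 0

theorem theta_one_sub_X_pow {R : Type*} [CommRing R] {r : ℕ} (hr : 0 < r) :
    theta (1 - PowerSeries.X ^ r : R⟦X⟧) = (1 - PowerSeries.X ^ r) * (-((r : R⟦X⟧) * per R r)) := by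
  ext n
  have hc : ∀ m, coeff m ((r : R⟦X⟧) * per R r) = (r : R) * (if m ≠ 0 ∧ r ∣ m then 1 else 0) := fun m => by
    rw [← map_natCast (C : R →+* R⟦X⟧), coeff_C_mul, per, coeff_mk]
  rw [coeff_theta, sub_mul, one_mul, mul_comm (PowerSeries.X ^ r), map_sub, map_sub, coeff_one, coeff_X_pow,
    coeff_mul_X_pow', map_neg, hc]
  rcases lt_trichotomy n r with h | rfl | h
  · rw [if_neg (by omega : ¬ r ≤ n), if_neg (by omega : ¬ n = r), if_neg (fun h' : n ≠ 0 ∧ r ∣ n => by
      have := Nat.le_of_dvd (Nat.pos_of_ne_zero h'.1) h'.2; omega)]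
    rcases Nat.eq_zero_or_pos n with rfl | h0
    · simp
    · rw [if_neg h0.ne']; simp
  · rw [if_pos le_rfl, if_pos rfl, map_neg, hc]
    simp [hr.ne']
  · rw [if_pos h.le, if_neg (by omega : ¬ n = r), if_neg (by omega : ¬ n = 0), map_neg, hc]
    by_cases hd : r ∣ n
    · rw [if_pos ⟨by omega, hd⟩, if_pos ⟨by omega, (Nat.dvd_sub hd dvd_rfl)⟩]; ring
    · rw [if_neg fun h' => hd h'.2, if_neg fun h' => hd ((Nat.dvd_sub_iff_left h.le dvd_rfl).1 h'.2)]; ring

theorem inv_int_coeff {P : ℤ⟦X⟧} (hP : constantCoeff P = 1) (F : ℚ⟦X⟧) (n : ℕ)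
    (h : ∀ m ≤ n, coeff m (F * PowerSeries.map (Int.castRingHom ℚ) P) = coeff m (1 : ℚ⟦X⟧)) :
    ∃ z : ℤ, coeff n F = z := by
  induction n using Nat.strong_induction_on with
  | _ n ih =>
    have hn := h n le_rfl
    rw [coeff_mul, coeff_one] at hn
    have hmem : ((n, 0) : ℕ × ℕ) ∈ Finset.HasAntidiagonal.antidiagonal n := by simp
    rw [← Finset.add_sum_erase _ _ hmem, coeff_map, coeff_zero_eq_constantCoeff_apply, hP, map_one, mul_one] at hn
    have hrest : ∃ z : ℤ, ∑ p ∈ (Finset.HasAntidiagonal.antidiagonal n).erase (n, 0),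
        coeff p.1 F * coeff p.2 (PowerSeries.map (Int.castRingHom ℚ) P) = z := by
      refine Finset.sum_induction _ (fun x : ℚ => ∃ z : ℤ, x = z) ?_ ⟨0, by simp⟩ fun p hp => ?_
      · rintro a b ⟨x, rfl⟩ ⟨y, rfl⟩
        exact ⟨x + y, by simp⟩
      · rw [Finset.mem_erase, Finset.HasAntidiagonal.mem_antidiagonal] at hp
        have hlt : p.1 < n := by
          rcases Nat.eq_zero_or_pos p.2 with h0 | h0
          · exact absurd (Prod.ext (by omega) h0) hp.1
          · omega
        obtain ⟨x, hx⟩ := ih p.1 hlt fun m hm => h m (by omega)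
        exact ⟨x * coeff p.2 P, by rw [hx, coeff_map]; simp⟩
    obtain ⟨z, hz⟩ := hrest
    refine ⟨(if n = 0 then 1 else 0) - z, ?_⟩
    rw [hz] at hn
    push_cast
    linear_combination hn

end Groth.Agent.ZetaFun
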