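import Groth.Agent.ZetaFun.Points
import Groth.Agent.S13062
import Mathlib.Analysis.Normed.Ring.InfiniteSum
import Mathlib.Analysis.SpecificLimits.Normed
import Mathlib.NumberTheory.LSeries.Convergence

/-! The Dirichlet series of a scheme over a finite field through its zeta function. -/

noncomputable section

set_option autoImplicit false
set_option backward.isDefEq.respectTransparency.types false
set_option linter.style.haveILetI false

universe u

open CategoryTheory AlgebraicGeometry

namespace Groth.Agent.ZetaFun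

open FunFldLib

theorem per_mul (d : ℕ) (hd : 0 < d) :
    (PowerSeries.mk fun n => if d ∣ n then (1 : ℚ) else 0) * (1 - PowerSeries.X ^ d) = 1 := by
  ext n
  rw [mul_sub, mul_one, map_sub, PowerSeries.coeff_mul_X_pow', PowerSeries.coeff_mk, PowerSeries.coeff_one]
  rcases lt_or_ge n d with h | h
  · rw [if_neg (by omega : ¬ d ≤ n), sub_zero]
    rcases Nat.eq_zero_or_pos n with rfl | h0
    · simp
    · rw [if_neg (fun hdd => by have := Nat.le_of_dvd h0 hdd; omega), if_neg h0.ne']
  · rw [if_pos h, PowerSeries.coeff_mk, if_neg (by omega : ¬ n = 0)]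
    by_cases hdd : d ∣ n
    · rw [if_pos hdd, if_pos (Nat.dvd_sub hdd dvd_rfl), sub_self]
    · rw [if_neg hdd, if_neg fun h' => hdd ((Nat.dvd_sub_iff_left h dvd_rfl).1 h'), sub_self]

theorem theta_geo_step (d : ℕ) (hd : 0 < d) :
    theta (PowerSeries.mk fun n => if d ∣ n then (1 : ℚ) else 0) =
      (PowerSeries.mk fun n => if d ∣ n then (1 : ℚ) else 0) * ((d : PowerSeries ℚ) * per ℚ d) := by
  have h := congrArg theta (per_mul d hd)
  rw [theta_mul, theta_one, theta_one_sub_X_pow hd] at h
  have hne : (1 - PowerSeries.X ^ d : PowerSeries ℚ) ≠ 0 := fun h0 => by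
    have := per_mul d hd
    rw [h0, mul_zero] at this
    exact zero_ne_one this
  refine mul_right_cancel₀ hne ?_
  linear_combination h

theorem exists_geom_bound (F W : PowerSeries ℚ) (hF : theta F = F * W) (hW : PowerSeries.coeff 0 W = 0) (C Q : ℝ) (hC : 0 ≤ C) (hQ : 0 < Q)
    (hb : ∀ j, 0 < j → |((PowerSeries.coeff j W : ℚ) : ℝ)| ≤ C * Q ^ j) (R : ℝ) (hR : Q < R) :
    ∃ K : ℝ, ∀ n, |((PowerSeries.coeff n F : ℚ) : ℝ)| ≤ K * R ^ n := by
  have hR0 : 0 < R := hQ.trans hR
  obtain ⟨n₀, hn₀⟩ := exists_nat_ge (C * (Q / (R - Q)))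
  let a : ℕ → ℝ := fun n => |((PowerSeries.coeff n F : ℚ) : ℝ)|
  let K : ℝ := ∑ i ∈ Finset.range (n₀ + 1), a i / R ^ i
  have hK0 : 0 ≤ K := Finset.sum_nonneg fun i _ => div_nonneg (abs_nonneg _) (pow_nonneg hR0.le i)
  refine ⟨K, fun n => ?_⟩
  induction n using Nat.strong_induction_on with
  | _ n ih =>
    rcases le_or_gt n n₀ with hn | hn
    · rw [← div_le_iff₀ (pow_pos hR0 n)]
      exact Finset.single_le_sum (f := fun i => a i / R ^ i) (fun i _ => div_nonneg (abs_nonneg _) (pow_nonneg hR0.le i))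
        (Finset.mem_range.2 (Nat.lt_succ_of_le hn))
    have h1 := congrArg (fun z : ℚ => (z : ℝ)) (congrArg (PowerSeries.coeff n) hF)
    simp only [coeff_theta, PowerSeries.coeff_mul, Rat.cast_mul, Rat.cast_natCast, Rat.cast_sum] at h1
    rw [Finset.Nat.sum_antidiagonal_eq_sum_range_succ (fun i j => ((PowerSeries.coeff i F : ℚ) : ℝ) * ((PowerSeries.coeff j W : ℚ) : ℝ)),
      Finset.sum_range_succ, Nat.sub_self, hW, Rat.cast_zero, mul_zero, add_zero] at h1
    have h2 : (n : ℝ) * a n ≤ C * K * R ^ n * ∑ i ∈ Finset.range n, (Q / R) ^ (i + 1) := by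
      calc (n : ℝ) * a n = |(n : ℝ) * ((PowerSeries.coeff n F : ℚ) : ℝ)| := by rw [abs_mul, abs_of_nonneg (Nat.cast_nonneg n)]
        _ ≤ ∑ i ∈ Finset.range n, |((PowerSeries.coeff i F : ℚ) : ℝ) * ((PowerSeries.coeff (n - i) W : ℚ) : ℝ)| := by
            rw [h1]; exact Finset.abs_sum_le_sum_abs _ _
        _ ≤ ∑ i ∈ Finset.range n, C * K * R ^ n * (Q / R) ^ (n - i) := by
            refine Finset.sum_le_sum fun i hi => ?_
            rw [Finset.mem_range] at hi
            rw [abs_mul]
            refine (mul_le_mul (ih i hi) (hb (n - i) (by omega)) (abs_nonneg _) (mul_nonneg hK0 (pow_nonneg hR0.le i))).trans_eq ?_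
            have : R ^ n = R ^ i * R ^ (n - i) := by rw [← pow_add]; congr 1; omega
            rw [div_pow, this]
            field_simp
        _ = _ := by
            rw [← Finset.mul_sum]
            congr 1
            refine (Finset.sum_range_reflect (fun j => (Q / R) ^ (n - j)) n).symm.trans ?_
            refine Finset.sum_congr rfl fun i hi => ?_
            rw [Finset.mem_range] at hi
            congr 1
            omega
    have h3 : ∑ i ∈ Finset.range n, (Q / R) ^ (i + 1) ≤ Q / (R - Q) := by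
      have hlt : Q / R < 1 := (div_lt_one hR0).2 hR
      have h0 : 0 ≤ Q / R := (div_pos hQ hR0).le
      have hs := (summable_geometric_of_lt_one h0 hlt).sum_le_tsum (Finset.range n) (fun i _ => pow_nonneg h0 i)
      rw [tsum_geometric_of_lt_one h0 hlt] at hs
      simp only [pow_succ, ← Finset.sum_mul]
      refine (mul_le_mul_of_nonneg_right hs h0).trans_eq ?_
      field_simp
    have hn0 : (0 : ℝ) < n := Nat.cast_pos.2 (by omega)
    have h4 : (n : ℝ) * a n ≤ (n : ℝ) * (K * R ^ n) := by
      refine h2.trans ((mul_le_mul_of_nonneg_left h3 (by positivity)).trans ?_)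
      have h5 : C * (Q / (R - Q)) ≤ (n : ℝ) := hn₀.trans (by exact_mod_cast hn.le)
      calc C * K * R ^ n * (Q / (R - Q)) = (C * (Q / (R - Q))) * (K * R ^ n) := by ring
        _ ≤ _ := mul_le_mul_of_nonneg_right h5 (by positivity)
    exact le_of_mul_le_mul_left h4 hn0

variable {k : Type u} [Field k] [Finite k] {X : Scheme.{u}} (f : X ⟶ Spec (CommRingCat.of k))
  [LocallyOfFiniteType f] [QuasiCompact f]

theorem nPts_bound (r : ℕ) (hr : topologicalKrullDim X ≤ r) :
    ∃ c : ℕ, ∀ m, 0 < m → Zeta.nPts f m ≤ c * (Nat.card k ^ r) ^ m := by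
  obtain ⟨c, hc⟩ := S13062.result f r hr
  refine ⟨c, fun m hm => ?_⟩
  obtain ⟨p, hp⟩ := CharP.exists k
  haveI : Fact p.Prime := ⟨CharP.char_is_prime k p⟩
  haveI : NeZero m := ⟨hm.ne'⟩
  let k' := ULift.{u} (FiniteField.Extension k p m)
  have hd : Module.finrank k k' = m :=
    (ULift.moduleEquiv (R := k) (M := FiniteField.Extension k p m)).finrank_eq.trans (FiniteField.finrank_extension k p m)
  haveI : Finite k' := Finite.of_equiv _ Equiv.ulift.symm
  have h := hc k'
  letI : X.Over (Spec (CommRingCat.of k)) := ⟨f⟩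
  haveI : LocallyOfFiniteType (X ↘ Spec (CommRingCat.of k)) := ‹LocallyOfFiniteType f›
  haveI : QuasiCompact (X ↘ Spec (CommRingCat.of k)) := ‹QuasiCompact f›
  rw [show SgaExt.pointCount f k' = Zeta.nPts f (Module.finrank k k') from pointCount_eq_nPts (k := k) (X := X) k', hd] at h
  rwa [← pow_mul]

theorem card_residueField {x : X} (hx : IsClosed ({x} : Set X)) :
    Nat.card (X.residueField x) = Nat.card k ^ EGA4loc.residueDegree f x := by
  letI : X.Over (Spec (CommRingCat.of k)) := ⟨f⟩
  haveI : LocallyOfFiniteType (X ↘ Spec (CommRingCat.of k)) := ‹LocallyOfFiniteType f›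
  letI := Curv2.resAlgebra k X x
  haveI := (isClosed_iff (k := k) x).1 hx
  exact Module.natCard_eq_pow_finrank.trans (congrArg (Nat.card k ^ ·) (residueDegree_eq (k := k) x).symm)

theorem prod_norm {α : X →₀ ℕ} (hα : ∀ x ∈ α.support, IsClosed ({x} : Set X)) :
    α.prod (fun x m => Nat.card (X.residueField x) ^ m) =
      Nat.card k ^ ∑ x ∈ α.support, EGA4loc.residueDegree f x * α x := by
  rw [← Finset.prod_pow_eq_pow_sum]
  exact Finset.prod_congr rfl fun x hx => by dsimp only; rw [card_residueField f (hα x hx), ← pow_mul]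

include f in
theorem cycleNormCount_eq_zero {n : ℕ} (hn : n ∉ Set.range fun m : ℕ => Nat.card k ^ m) :
    Zeta.cycleNormCount X n = 0 := by
  haveI : IsEmpty { α : X →₀ ℕ // (∀ x ∈ α.support, IsClosed ({x} : Set X)) ∧
      α.prod (fun x m => Nat.card (X.residueField x) ^ m) = n } :=
    ⟨fun ⟨α, hα, h⟩ => hn ⟨_, ((prod_norm f hα).symm.trans h)⟩⟩
  exact Nat.card_of_isEmpty

theorem cycleNormCount_pow (m : ℕ) :
    (Zeta.cycleNormCount X (Nat.card k ^ m) : ℚ) = PowerSeries.coeff m (Zeta.zetaFun f) := by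
  classical
  let deg : X → ℕ := fun x => EGA4loc.residueDegree f x
  have hfin : ∀ e ∈ Finset.Icc 1 m, {x : X | IsClosed ({x} : Set X) ∧ deg x = e}.Finite := fun e he =>
    Set.finite_coe_iff.1 (finite_degCount f (Finset.mem_Icc.1 he).1)
  have hS' : {x : X | IsClosed ({x} : Set X) ∧ deg x ≤ m}.Finite := by
    refine ((Finset.Icc 1 m).finite_toSet.biUnion hfin).subset fun x hx => ?_
    exact Set.mem_biUnion (Finset.mem_coe.2 (Finset.mem_Icc.2 ⟨(isClosed_iff_pos f x).1 hx.1, hx.2⟩)) ⟨hx.1, rfl⟩
  let S := hS'.toFinset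
  have hpos : ∀ x ∈ S, 0 < deg x := fun x hx => (isClosed_iff_pos f x).1 (hS'.mem_toFinset.1 hx).1
  let G : PowerSeries ℚ := ∏ x ∈ S, PowerSeries.mk fun n => if deg x ∣ n then (1 : ℚ) else 0
  have hG : PowerSeries.coeff m G = PowerSeries.coeff m (Zeta.zetaFun f) := by
    have hθ := theta_prod_of S (F := fun x => PowerSeries.mk fun n => if deg x ∣ n then (1 : ℚ) else 0)
      (U := fun x => (deg x : PowerSeries ℚ) * per ℚ (deg x)) fun x hx => theta_geo_step _ (hpos x hx)
    refine coeff_eq_of_theta m hθ (theta_zetaFun f) ?_ ?_ (coeff_U_zero f) ?_ m le_rfl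
    · rw [coeff_zero_zetaFun, PowerSeries.coeff_zero_eq_constantCoeff_apply, map_prod]
      exact Finset.prod_eq_one fun x _ => by rw [← PowerSeries.coeff_zero_eq_constantCoeff_apply]; simp
    · rw [map_sum]
      exact Finset.sum_eq_zero fun x _ => by
        rw [← map_natCast (PowerSeries.C : ℚ →+* PowerSeries ℚ), PowerSeries.coeff_C_mul]; simp [per]
    · intro j hj
      rw [map_sum, U, PowerSeries.coeff_mk, Zeta.nPts]
      rcases Nat.eq_zero_or_pos j with rfl | hj0
      · simp only [Nat.divisors_zero, Finset.sum_empty, Nat.cast_zero]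
        exact Finset.sum_eq_zero fun x _ => by
          rw [← map_natCast (PowerSeries.C : ℚ →+* PowerSeries ℚ), PowerSeries.coeff_C_mul]; simp [per]
      calc ∑ x ∈ S, PowerSeries.coeff j ((deg x : PowerSeries ℚ) * per ℚ (deg x))
          = ∑ x ∈ S.filter (fun x => deg x ∣ j), (deg x : ℚ) := by
            rw [Finset.sum_filter]
            exact Finset.sum_congr rfl fun x _ => by
              rw [← map_natCast (PowerSeries.C : ℚ →+* PowerSeries ℚ), PowerSeries.coeff_C_mul]
              simp [per, hj0.ne']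
        _ = _ := by
            rw [← Finset.sum_fiberwise_of_maps_to (t := j.divisors) (g := deg)
              fun x hx => Nat.mem_divisors.2 ⟨(Finset.mem_filter.1 hx).2, hj0.ne'⟩, Nat.cast_sum]
            refine Finset.sum_congr rfl fun e he => ?_
            rw [Finset.sum_congr rfl (fun x hx => show (deg x : ℚ) = (e : ℚ) by rw [(Finset.mem_filter.1 hx).2]),
              Finset.sum_const, nsmul_eq_mul, mul_comm, Nat.cast_mul]
            congr 2
            rw [Zeta.degCount, ← Nat.card_eq_finsetCard]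
            refine Nat.card_congr (Equiv.subtypeEquivRight fun x => ?_)
            simp only [Finset.mem_filter, S, Set.Finite.mem_toFinset, Set.mem_setOf_eq]
            refine ⟨fun h => ⟨h.1.1.1, h.2⟩, fun h => ⟨⟨⟨h.1, ?_⟩, ?_⟩, h.2⟩⟩
            · rw [show deg x = e from h.2]; exact (Nat.le_of_dvd hj0 (Nat.mem_divisors.1 he).1).trans hj
            · rw [show deg x = e from h.2]; exact (Nat.mem_divisors.1 he).1
  rw [← hG, PowerSeries.coeff_prod]
  simp only [PowerSeries.coeff_mk, Finset.prod_ite_zero, Finset.prod_const_one]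
  rw [Finset.sum_boole, ← Nat.card_eq_finsetCard]
  congr 1
  refine Nat.card_congr
    { toFun := fun a => ⟨Finsupp.onFinset S (fun x => if x ∈ S then deg x * a.1 x else 0) (fun x hx => by
          by_contra h; exact hx (if_neg h)), ?_⟩
      invFun := fun l => ⟨Finsupp.onFinset S (fun x => if x ∈ S then l.1 x / deg x else 0) (fun x hx => by
          by_contra h; exact hx (if_neg h)), ?_⟩
      left_inv := ?_
      right_inv := ?_ }
  · obtain ⟨α, hα, hn⟩ := a
    rw [prod_norm f hα] at hn
    have hsum : ∑ x ∈ α.support, deg x * α x = m := Nat.pow_right_injective Finite.one_lt_card hn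
    have hsub : α.support ⊆ S := fun x hx => hS'.mem_toFinset.2 ⟨hα x hx, by
      refine le_trans ?_ ((Finset.single_le_sum (f := fun x => deg x * α x) (fun _ _ => Nat.zero_le _) hx).trans_eq hsum)
      exact Nat.le_mul_of_pos_right _ (Nat.pos_of_ne_zero (Finsupp.mem_support_iff.1 hx))⟩
    rw [Finset.mem_filter, Finset.mem_finsuppAntidiag]
    refine ⟨⟨?_, Finsupp.support_onFinset_subset⟩, fun x hx => ?_⟩
    · refine Eq.trans ?_ hsum
      rw [Finset.sum_subset hsub fun x _ hx => by simp [Finsupp.notMem_support_iff.1 hx]]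
      exact Finset.sum_congr rfl fun x hx => if_pos hx
    · rw [Finsupp.onFinset_apply, if_pos hx]; exact dvd_mul_right _ _
  · obtain ⟨l, hl⟩ := l
    rw [Finset.mem_filter, Finset.mem_finsuppAntidiag] at hl
    refine ⟨fun x hx => (hS'.mem_toFinset.1 (Finsupp.support_onFinset_subset hx)).1, ?_⟩
    rw [prod_norm f (fun x hx => (hS'.mem_toFinset.1 (Finsupp.support_onFinset_subset hx)).1)]
    congr 1
    rw [Finset.sum_subset (Finsupp.support_onFinset_subset (s := S)) fun x _ hx => by
      rw [Finsupp.notMem_support_iff.1 hx, mul_zero]]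
    refine Eq.trans ?_ hl.1.1
    refine Finset.sum_congr rfl fun x hx => ?_
    rw [Finsupp.onFinset_apply, if_pos hx]
    exact Nat.mul_div_cancel' (hl.2 x hx)
  · rintro ⟨α, hα, hn⟩
    rw [prod_norm f hα] at hn
    have hsum : ∑ x ∈ α.support, deg x * α x = m := Nat.pow_right_injective Finite.one_lt_card hn
    refine Subtype.ext (Finsupp.ext fun x => ?_)
    by_cases hx : x ∈ S
    · simp [hx, hpos x hx]
    · simp only [Finsupp.onFinset_apply, if_neg hx]
      by_contra h
      have hxs : x ∈ α.support := Finsupp.mem_support_iff.2 (Ne.symm h)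
      refine hx (hS'.mem_toFinset.2 ⟨hα x hxs, ?_⟩)
      exact (Nat.le_mul_of_pos_right _ (Nat.pos_of_ne_zero (Ne.symm h))).trans
        ((Finset.single_le_sum (f := fun x => deg x * α x) (fun _ _ => Nat.zero_le _) hxs).trans_eq hsum)
  · rintro ⟨l, hl⟩
    rw [Finset.mem_filter, Finset.mem_finsuppAntidiag] at hl
    refine Subtype.ext (Finsupp.ext fun x => ?_)
    by_cases hx : x ∈ S
    · simp [hx, Nat.mul_div_cancel' (hl.2 x hx)]
    · simp only [Finsupp.onFinset_apply, if_neg hx]
      exact (Finsupp.notMem_support_iff.1 fun h => hx (hl.1.2 h)).symm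

end Groth.Agent.ZetaFun
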